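import Groth.Agent.EtCons.Descent
import Groth.Agent.EtCons.ReducedRange
import Mathlib

/-!
Stratifications adapted to a family of sheaves descend along surjective morphisms of finite type.
-/

set_option autoImplicit false
set_option backward.isDefEq.respectTransparency false
set_option linter.style.haveILetI false
set_option linter.unusedSectionVars false
set_option maxHeartbeats 1000000

universe u v

open CategoryTheory CategoryTheory.Limits AlgebraicGeometry Topology TopologicalSpace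

noncomputable section

namespace Groth.Agent.EtAdaptStrata

open EtCons (nonempty_pull_pull isFLC_of_iso isFLC_pull isFLC_of_pull_etale isFLC_of_pull_uh exists_cut_point)

theorem exists_slice {X Y : Scheme.{u}} (f : X ⟶ Y) [LocallyOfFinitePresentation f]
    {D : Y.Opens} (hD : IsAffineOpen D) {x₀ : X} (hy : x₀ ∈ f ⁻¹ᵁ D) :
    ∃ (Z : Scheme.{u}) (h : Z ⟶ X) (z : Z), IsAffine Z ∧ f (h z) = f x₀ ∧ (∀ w, f (h w) ∈ D) ∧
      LocallyQuasiFinite (h ≫ f) ∧ LocallyOfFinitePresentation (h ≫ f) := by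
  obtain ⟨y, hx₀⟩ : ∃ y, f x₀ = y := ⟨_, rfl⟩
  rw [hx₀]
  replace hy : y ∈ D := hx₀ ▸ (show f x₀ ∈ D from hy)
  obtain ⟨U, hU, hxU, hUD⟩ := exists_isAffineOpen_mem_and_subset (X := X) (x := x₀) (U := f ⁻¹ᵁ D)
    (show f x₀ ∈ D by rw [hx₀]; exact hy)
  let A := Γ(Y, D)
  let B := Γ(X, U)
  letI : Algebra A B := (f.appLE D U hUD).hom.toAlgebra
  haveI : Algebra.FinitePresentation A B := f.finitePresentation_appLE hD hU hUD
  let p : PrimeSpectrum A := hD.primeIdealOf ⟨y, hy⟩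
  have hp : hD.fromSpec p = y := hD.fromSpec_primeIdealOf ⟨y, hy⟩
  have hsq : Spec.map (f.appLE D U hUD) ≫ hD.fromSpec = hU.fromSpec ≫ f :=
    IsAffineOpen.SpecMap_appLE_fromSpec f hD hU hUD
  have hne : (PrimeSpectrum.comap (algebraMap A B) ⁻¹' {p}).Nonempty := by
    refine ⟨hU.primeIdealOf ⟨x₀, hxU⟩, hD.fromSpec.isOpenEmbedding.injective ?_⟩
    rw [hp]
    exact ((congr($hsq (hU.primeIdealOf ⟨x₀, hxU⟩))).trans (by
      rw [Scheme.Hom.comp_apply, hU.fromSpec_primeIdealOf]; exact hx₀))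
  obtain ⟨q, s, hqp, hsq', huniq⟩ := exists_cut_point p hne
  let I : Ideal B := Ideal.span (s : Set B)
  haveI : Algebra.FinitePresentation A (B ⧸ I) := Algebra.FinitePresentation.quotient ⟨s, rfl⟩
  let ψ : CommRingCat.of A ⟶ CommRingCat.of (B ⧸ I) := CommRingCat.ofHom (algebraMap A (B ⧸ I))
  haveI : LocallyOfFinitePresentation (Spec.map ψ) :=
    (HasRingHomProperty.Spec_iff (P := @LocallyOfFinitePresentation)).2
      (RingHom.finitePresentation_algebraMap.2 inferInstance)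
  let π : Spec (CommRingCat.of (B ⧸ I)) ⟶ Spec (CommRingCat.of B) := Spec.map (CommRingCat.ofHom (Ideal.Quotient.mk I))
  have hπ : π ≫ Spec.map (f.appLE D U hUD) = Spec.map ψ := by
    rw [← Spec.map_comp]; rfl
  have hIq : I ≤ q.asIdeal := Ideal.span_le.2 hsq'
  obtain ⟨r, hr⟩ : q ∈ Set.range (PrimeSpectrum.comap (Ideal.Quotient.mk I)) := by
    rw [range_comap_of_surjective _ _ Ideal.Quotient.mk_surjective, Ideal.mk_ker]
    exact hIq
  have hrp : Spec.map ψ r = p := by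
    rw [← hπ, Scheme.Hom.comp_apply]
    exact (congrArg _ hr).trans hqp
  have hqf : (Spec.map ψ).QuasiFiniteAt r := by
    rw [Scheme.Hom.quasiFiniteAt_iff_isOpen_singleton_asFiber]
    haveI : Subsingleton ↥((Spec.map ψ).fiber (Spec.map ψ r)) := by
      refine ⟨fun a b => ?_⟩
      have key : ∀ c : (Spec.map ψ) ⁻¹' {Spec.map ψ r}, c.1 = r := by
        intro c
        apply PrimeSpectrum.comap_injective_of_surjective _ Ideal.Quotient.mk_surjective
        rw [hr]
        refine huniq _ ?_ ?_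
        · have h1 : Spec.map ψ c.1 = p := c.2.trans hrp
          exact (congr($hπ c.1)).trans h1
        · intro g hg
          show Ideal.Quotient.mk I g ∈ c.1.asIdeal
          rw [Ideal.Quotient.eq_zero_iff_mem.2 (Ideal.subset_span hg)]
          exact zero_mem _
      apply ((Spec.map ψ).fiberHomeo _).injective
      exact Subtype.ext ((key _).trans (key _).symm)
    exact isOpen_discrete _
  obtain ⟨O, hO, hrO, hOl⟩ := exists_isAffineOpen_mem_and_subset (x := r) (U := (Spec.map ψ).quasiFiniteLocus) hqf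
  haveI : IsAffine O.toScheme := hO
  have e : (O.ι ≫ π ≫ hU.fromSpec) ≫ f = (O.ι ≫ Spec.map ψ) ≫ hD.fromSpec := by
    rw [Category.assoc, Category.assoc, ← hsq, ← hπ]; simp
  haveI : LocallyQuasiFinite (O.ι ≫ Spec.map ψ) := by
    rw [← Scheme.Hom.quasiFiniteLocus_eq_top_iff, Scheme.Hom.quasiFiniteLocus_comp, eq_top_iff]
    exact fun w _ => hOl w.2
  refine ⟨O, O.ι ≫ π ≫ hU.fromSpec, ⟨r, hrO⟩, inferInstance, ?_, fun w => ?_, ?_, ?_⟩
  · rw [← Scheme.Hom.comp_apply, e]
    show hD.fromSpec (Spec.map ψ r) = y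
    rw [hrp, hp]
  · show f _ ∈ (D : Set Y)
    rw [← Scheme.Hom.comp_apply, e, ← hD.range_fromSpec]
    exact ⟨_, rfl⟩
  · rw [e]; infer_instance
  · rw [e]; infer_instance


theorem exists_generic {Y : Type*} [TopologicalSpace Y] [NoetherianSpace Y] [QuasiSober Y] (C : Closeds Y)
    (hC : ¬ (C : Set Y) = ∅) :
    ∃ y : Y, y ∈ (C : Set Y) ∧ ∃ O : Set Y, IsOpen O ∧ y ∈ O ∧ (C : Set Y) ∩ O ⊆ closure {y} := by
  haveI : NoetherianSpace (C : Set Y) := NoetherianSpace.set _
  haveI : QuasiSober (C : Set Y) := C.isClosed.isClosedEmbedding_subtypeVal.quasiSober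
  obtain ⟨c, hc⟩ := Set.nonempty_iff_ne_empty.2 hC
  let K := irreducibleComponent (⟨c, hc⟩ : (C : Set Y))
  have hK : K ∈ irreducibleComponents (C : Set Y) := irreducibleComponent_mem_irreducibleComponents _
  obtain ⟨y, hy⟩ := QuasiSober.sober hK.1 (isClosed_of_mem_irreducibleComponents K hK)
  let R := ⋃ L ∈ irreducibleComponents (C : Set Y) \ {K}, L
  have hR : IsClosed R := (NoetherianSpace.finite_irreducibleComponents.subset Set.sdiff_subset).isClosed_biUnion
    fun L hL => isClosed_of_mem_irreducibleComponents L hL.1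
  have hRim : IsClosed (Subtype.val '' R : Set Y) := C.isClosed.isClosedEmbedding_subtypeVal.isClosedMap _ hR
  refine ⟨y.1, y.2, (Subtype.val '' R)ᶜ, hRim.isOpen_compl, ?_, ?_⟩
  · rintro ⟨y', hy', e⟩
    obtain rfl : y' = y := Subtype.ext e
    obtain ⟨L, hL, hyL⟩ := Set.mem_iUnion₂.1 hy'
    refine hL.2 (Set.mem_singleton_iff.2 ?_)
    have hKL : K ⊆ L := hy.def ▸ closure_minimal (Set.singleton_subset_iff.2 hyL)
      (isClosed_of_mem_irreducibleComponents L hL.1)
    exact subset_antisymm (hK.2 hL.1.1 hKL) hKL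
  · rintro z ⟨hzC, hz⟩
    have hzK : (⟨z, hzC⟩ : (C : Set Y)) ∈ K := by
      have h : (⟨z, hzC⟩ : (C : Set Y)) ∈ ⋃₀ irreducibleComponents (C : Set Y) := by
        rw [sUnion_irreducibleComponents]; trivial
      obtain ⟨L, hL, hzL⟩ := h
      by_cases hLK : L = K
      · exact hLK ▸ hzL
      · exact absurd ⟨_, Set.mem_iUnion₂.2 ⟨L, ⟨hL, hLK⟩, hzL⟩, rfl⟩ hz
    rw [← hy.def] at hzK
    have := image_closure_subset_closure_image continuous_subtype_val ⟨_, hzK, rfl⟩
    simpa using this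

variable {X : Scheme.{u}} {ι : Type v} (F : ι → EtCoh.Ab X)

/-- all sheaves of the family are finite locally constant along a morphism -/
def Adapted {T : Scheme.{u}} (c : T ⟶ X) : Prop :=
  ∀ k, EtCoh.IsFiniteLocallyConstant ((EtCoh.pull c).obj (F k))

theorem Adapted.comp {T T' : Scheme.{u}} {c : T ⟶ X} (h : Adapted F c) (j : T' ⟶ T) (c' : T' ⟶ X)
    (w : j ≫ c = c') : Adapted F c' := fun k => by
  obtain ⟨e⟩ := nonempty_pull_pull j c c' w
  exact isFLC_of_iso (e.app (F k)) (isFLC_pull j (h k))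

theorem Adapted.of_etale {T T' : Scheme.{u}} (r : T' ⟶ T) [Etale r] [Surjective r] {c : T ⟶ X}
    (h : Adapted F (r ≫ c)) : Adapted F c := fun k => by
  obtain ⟨e⟩ := nonempty_pull_pull r c (r ≫ c) rfl
  exact isFLC_of_pull_etale r (isFLC_of_iso (e.app (F k)).symm (h k))

theorem Adapted.of_uh {T T' : Scheme.{u}} (r : T' ⟶ T) [IsIntegralHom r] [UniversallyInjective r] [Surjective r]
    {c : T ⟶ X} (h : Adapted F (r ≫ c)) : Adapted F c := fun k => by
  obtain ⟨e⟩ := nonempty_pull_pull r c (r ≫ c) rfl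
  exact isFLC_of_pull_uh r (isFLC_of_iso (e.app (F k)).symm (h k))

/-- a stratum through each point -/
theorem exists_stratum [IsLocallyNoetherian X] {X' : Scheme.{u}} (q : X' ⟶ X) [LocallyOfFiniteType q]
    [Surjective q] {T : Scheme.{u}} (g : T ⟶ X') [IsImmersion g] {t : T} (h : Adapted F (g ≫ q)) :
    ∃ (W : Scheme.{u}) (c : W ⟶ X), IsImmersion c ∧ q (g t) ∈ Set.range c ∧ Adapted F c := by
  classical
  obtain ⟨y, hy⟩ : ∃ y, q (g t) = y := ⟨_, rfl⟩
  obtain ⟨D, hD, hyD, -⟩ := EtCons.exists_affine_le (V := (⊤ : X.Opens)) (x := y) trivial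
  haveI : LocallyOfFiniteType (g ≫ q) := inferInstance
  haveI : IsLocallyNoetherian T := LocallyOfFiniteType.isLocallyNoetherian (g ≫ q)
  haveI : LocallyOfFinitePresentation (g ≫ q) := inferInstance
  let T' : T.Opens := (g ≫ q) ⁻¹ᵁ D
  have htD : t ∈ T' := by
    show (g ≫ q) t ∈ D
    rw [Scheme.Hom.comp_apply, hy]
    exact hyD
  obtain ⟨Z, h', z, hZ, hzy, hzD, hqf, hfp⟩ := exists_slice (g ≫ q) hD htD
  haveI := hZ; haveI := hqf; haveI := hfp
  have hzy' : (h' ≫ g ≫ q) z = y := by rw [Scheme.Hom.comp_apply, hzy, Scheme.Hom.comp_apply, hy]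
  have hcpt : IsCompact (((h' ≫ g ≫ q) ⁻¹ᵁ D : Z.Opens) : Set Z) := by
    rw [show (((h' ≫ g ≫ q) ⁻¹ᵁ D : Z.Opens) : Set Z) = Set.univ from Set.eq_univ_of_forall fun w => hzD w]
    exact isCompact_univ
  obtain ⟨T₁, c₁, hc₁, hT₁, hfin, hyc₁, hc₁D, hC₁⟩ := EtCons.exists_finite_stratum (h' ≫ g ≫ q) hD hcpt hyD
  haveI := hc₁; haveI := hfin
  let π := pullback.snd (h' ≫ g ≫ q) c₁
  haveI : IsLocallyNoetherian T₁ := LocallyOfFiniteType.isLocallyNoetherian c₁
  haveI : LocallyOfFinitePresentation π := inferInstance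
  obtain ⟨y₁, hy₁⟩ := hyc₁
  have hyπ : y₁ ∈ Set.range π := by
    obtain ⟨w, -, hw⟩ := Scheme.Pullback.exists_preimage_pullback (f := h' ≫ g ≫ q) (g := c₁) z y₁
      (hzy'.trans hy₁.symm)
    exact ⟨w, hw⟩
  obtain ⟨D₁, hD₁, hyD₁, -⟩ := EtCons.exists_affine_le (V := (⊤ : T₁.Opens)) (x := y₁) trivial
  obtain ⟨W₁, cT, j, W, r, AW, LW, g', φW, πW, hcT, hj, hyT, hC, hre, hrs, hφf, hUI, hS, hπf, hπe, hπs, sq⟩ :=
    EtCons.exists_split_stratum π hD₁ hyD₁ D₁.ι ⟨⟨y₁, hyD₁⟩, rfl⟩ (by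
      rw [Scheme.Opens.range_ι, show (Subtype.val : ↥(D₁ : Set T₁) → T₁) ⁻¹' (D₁ : Set T₁) = Set.univ from
        Set.eq_univ_of_forall fun z => z.2]
      exact IsConstructible.univ)
  haveI := hcT; haveI := hre; haveI := hrs; haveI := hφf; haveI := hUI; haveI := hS; haveI := hπe
  haveI := hπs hyπ
  obtain ⟨w₁, hw₁⟩ := hyT
  refine ⟨W₁, cT ≫ c₁, inferInstance, ⟨w₁, by rw [Scheme.Hom.comp_apply, hw₁, hy₁, hy]⟩, ?_⟩
  have h1 : Adapted F ((g' ≫ pullback.fst (h' ≫ g ≫ q) c₁ ≫ h') ≫ (g ≫ q)) := h.comp F _ _ rfl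
  have e : (g' ≫ pullback.fst (h' ≫ g ≫ q) c₁ ≫ h') ≫ (g ≫ q) = φW ≫ πW ≫ r ≫ cT ≫ c₁ := by
    rw [Category.assoc, Category.assoc, pullback.condition]
    rw [reassoc_of% sq.w]
  rw [e] at h1
  exact (((h1.of_uh F φW).of_etale F πW).of_etale F r)

/-- finitely many strata -/
theorem exists_partition [NoetherianSpace X] [QuasiSober X]
    (h : ∀ y : X, ∃ (W : Scheme.{u}) (c : W ⟶ X), IsImmersion c ∧ y ∈ Set.range c ∧ Adapted F c)
    (C : Closeds X) :
    ∃ (m : ℕ) (T₀ : Fin m → Scheme.{u}) (g₀ : ∀ j, T₀ j ⟶ X), (∀ j, IsImmersion (g₀ j)) ∧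
      Pairwise (fun j j' => Disjoint (Set.range (g₀ j)) (Set.range (g₀ j'))) ∧
      (⋃ j, Set.range (g₀ j)) = (C : Set X) ∧ ∀ j, Adapted F (g₀ j) := by
  induction C using WellFoundedLT.induction with
  | _ C ih =>
    by_cases hC : (C : Set X) = ∅
    · exact ⟨0, Fin.elim0, fun j => j.elim0, fun j => j.elim0, fun j => j.elim0,
        by rw [hC]; simp, fun j => j.elim0⟩
    obtain ⟨P, hPl, hPC, hPne, hP, hdiff⟩ : ∃ P : Set X, IsLocallyClosed P ∧ P ⊆ C ∧ P.Nonempty ∧
        (∃ (W : Scheme.{u}) (c : W ⟶ X), IsImmersion c ∧ P ⊆ Set.range c ∧ Adapted F c) ∧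
        IsClosed ((C : Set X) \ P) := by
      obtain ⟨y, hyC, hymax⟩ := exists_generic C hC
      obtain ⟨W, c, hc, hyc, hA⟩ := h y
      haveI := hc
      have hL : IsLocallyClosed (Set.range c) := by exact c.isLocallyClosed_range
      obtain ⟨O, Z, hO, hZ, hLeq⟩ := hL
      rw [hLeq] at hyc
      obtain ⟨O', hO', hyO', hO'sub⟩ := hymax
      refine ⟨(C : Set X) ∩ (O ∩ O'), C.isClosed.isLocallyClosed.inter (hO.inter hO').isLocallyClosed,
        Set.inter_subset_left, ⟨y, hyC, hyc.1, hyO'⟩, ⟨W, c, hc, ?_, hA⟩, ?_⟩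
      · rintro z ⟨hzC, hzO, hzO'⟩
        rw [hLeq]
        exact ⟨hzO, closure_minimal (Set.singleton_subset_iff.2 hyc.2) hZ (hO'sub ⟨hzC, hzO'⟩)⟩
      · rw [show (C : Set X) \ ((C : Set X) ∩ (O ∩ O')) = (C : Set X) ∩ (O ∩ O')ᶜ from by ext z; simp]
        exact C.isClosed.inter (hO.inter hO').isClosed_compl
    obtain ⟨W, c, hc, hPc, hA⟩ := hP
    haveI := hc
    obtain ⟨P', p, hp, hpr, hpred⟩ := EtCons.exists_reduced_immersion_range hPl
    haveI := hp; haveI := hpred
    have hpA : Adapted F p := by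
      let s := pullback.fst p c
      have hs : Function.Surjective s := fun a => by
        obtain ⟨b, hb⟩ := hPc (hpr ▸ Set.mem_range_self a)
        obtain ⟨r, hr, -⟩ := Scheme.Pullback.exists_preimage_pullback a b hb.symm
        exact ⟨r, hr⟩
      haveI : Surjective s := ⟨hs⟩
      haveI : IsClosedImmersion s := IsClosedImmersion.of_isPreimmersion s (by
        rw [Set.range_eq_univ.2 hs]; exact isClosed_univ)
      haveI : IsIso s := isIso_of_isClosedImmersion_of_surjective s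
      refine hA.comp F (inv s ≫ pullback.snd p c) p ?_
      rw [Category.assoc, ← pullback.condition, IsIso.inv_hom_id_assoc]
    let C' : Closeds X := ⟨(C : Set X) \ P, hdiff⟩
    have hlt : C' < C := by
      refine lt_of_le_of_ne (fun z hz => hz.1) fun e => ?_
      obtain ⟨z, hz⟩ := hPne
      have h2 : z ∈ (C' : Set X) := by rw [e]; exact hPC hz
      exact h2.2 hz
    obtain ⟨m, T₀, g₀, hg, hdisj, hcov, hA'⟩ := ih C' hlt
    have hd0 : ∀ j, Disjoint (Set.range p) (Set.range (g₀ j)) := fun j =>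
      Set.disjoint_left.2 fun z hz hz' =>
        ((show z ∈ (C : Set X) \ P from hcov.le (Set.mem_iUnion.2 ⟨j, hz'⟩)).2 (hpr ▸ hz))
    refine ⟨m + 1, Fin.cons P' T₀, Fin.cases p g₀, ?_, ?_, ?_, ?_⟩
    · exact Fin.cases hp hg
    · intro a b hab
      induction a using Fin.cases with
      | zero =>
        induction b using Fin.cases with
        | zero => exact absurd rfl hab
        | succ b => exact hd0 b
      | succ a =>
        induction b using Fin.cases with
        | zero => exact (hd0 a).symm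
        | succ b => exact hdisj fun e => hab (congrArg Fin.succ e)
    · ext z
      simp only [Set.mem_iUnion, Fin.exists_fin_succ, Fin.cases_zero, Fin.cases_succ]
      constructor
      · rintro (hz | ⟨j, hz⟩)
        · exact hPC (hpr ▸ hz)
        · exact (show z ∈ (C : Set X) \ P from hcov.le (Set.mem_iUnion.2 ⟨j, hz⟩)).1
      · intro hz
        by_cases hzP : z ∈ P
        · exact Or.inl (hpr.symm ▸ hzP)
        · exact Or.inr (Set.mem_iUnion.1 (hcov.ge ⟨hz, hzP⟩))
    · exact Fin.cases hpA hA'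

end Groth.Agent.EtAdaptStrata
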